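import Cfsg.Agent.H66.LD.Three
import Cfsg.Agent.S4696
import Cfsg.Agent.Characters.Core
import Cfsg.Agent.H101.Cod.Over
import Cfsg.Agent.H924.M23.Facts
import Cfsg.Agent.H641.M23.Pi
import Cfsg.Agent.S0902
import Cfsg.Agent.S0944
import Cfsg.Agent.FastGrp
import Cfsg.Agent.Prune
set_option linter.all false

section
prune_inst 0x7ffcfefbefecbfffdfff7fbffed0dffbd1eccfffe6dfffcbffe1ef9fef9f23b339c56bad9de05aff8ef6e2b410b87843ff7eefffec6fdc7ffffdfff41ffbee0fb5e7318951d980a40fbc0ffe03f177ea6f3ffffffffffffffffffffffffffffffffdfbfeffff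

-- part: H591/M23/Blk
section
prune_inst 0x100002000000000000000000000000000800040000000001000001001000008000000000000000000000000000000000000000000020000020400000020010002080000000000000000000000000000000000000000000000
set_option linter.all false
open scoped Cfsg.Agent.FastGrp

/-!
# A block of defect one with full inertial index over `⟨u⟩ × T` (helper591)

`u` of prime order `p`, all non-trivial powers of `u` are conjugate, `C = C_G(u) = ⟨u⟩ × T`, and `θ` an irreducible
character of `T` of `p`-defect zero, invariant under `N_G(⟨u⟩)`.  The block `B` induced by `1 × θ` has exactly `p`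
members `χ`, and `χ (u t) = a χ * θ t` with `a χ = ± 1` (`p`-regular `t`); for every `χ` the inner product of
`t ↦ χ (u t)` with `θ` is `a χ` (`0` outside of `B`).
-/

set_option autoImplicit false

namespace Cfsg.Agent.H591.M23.Blk

open Cfsg
open Cfsg.Agent.Blocks.Basic Cfsg.Agent.Blocks.Local
open Cfsg.Agent.Characters.Core
open Cfsg.Agent.H66.LD.Three
open scoped ComplexConjugate

universe v

variable {G : Type v} [Group G]

/-- A linear character of `⟨u⟩` with value `ω` at `u`. -/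
theorem exists_linear {p : ℕ} {u : G} (hu : orderOf u = p) {ω : ℂ} (hω : ω ^ p = 1) (hp : p ≠ 0) :
    ∃ μ : Subgroup.zpowers u →* ℂˣ, ((μ ⟨u, Subgroup.mem_zpowers u⟩ : ℂˣ) : ℂ) = ω := by
  have h0 : ω ≠ 0 := by
    rintro rfl
    rw [zero_pow hp] at hω
    exact zero_ne_one hω
  let g : Subgroup.zpowers u := ⟨u, Subgroup.mem_zpowers u⟩
  have hg : ∀ x, x ∈ Subgroup.zpowers g := by
    rintro ⟨x, hx⟩
    obtain ⟨k, rfl⟩ := Subgroup.mem_zpowers_iff.1 hx
    exact Subgroup.mem_zpowers_iff.2 ⟨k, Subtype.ext (by simp [g])⟩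
  have h1 : orderOf (Units.mk0 ω h0) ∣ orderOf g := by
    have h2 : orderOf g = p := by rw [← hu]; exact Subgroup.orderOf_mk u _
    rw [h2]
    refine orderOf_dvd_of_pow_eq_one (Units.ext ?_)
    rw [Units.val_pow_eq_pow_val, Units.val_mk0, hω, Units.val_one]
  refine ⟨monoidHomOfForallMemZpowers hg h1, ?_⟩
  change ((monoidHomOfForallMemZpowers hg h1 g : ℂˣ) : ℂ) = ω
  rw [monoidHomOfForallMemZpowers_apply_gen, Units.val_mk0]

/-- the sum of the conjugates of a nontrivial linear character of `⟨u⟩` -/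
theorem exists_linear_sum [Finite G] {p : ℕ} [hp : Fact p.Prime] {u : G} (hu : orderOf u = p)
    [Fintype (Subgroup.zpowers u)] :
    ∃ μ : Subgroup.zpowers u →* ℂˣ, ∑ x : Subgroup.zpowers u, conj ((μ x : ℂˣ) : ℂ) = 0 := by
  obtain ⟨ω, hω⟩ : ∃ ω : ℂ, IsPrimitiveRoot ω p := ⟨_, Complex.isPrimitiveRoot_exp p hp.out.ne_zero⟩
  obtain ⟨μ, hμ⟩ := exists_linear hu hω.pow_eq_one hp.out.ne_zero
  refine ⟨μ, ?_⟩
  have h1 : ∑ x : Subgroup.zpowers u, ((μ x : ℂˣ) : ℂ) = 0 := by
    have h2 : ω * ∑ x : Subgroup.zpowers u, ((μ x : ℂˣ) : ℂ) = ∑ x : Subgroup.zpowers u, ((μ x : ℂˣ) : ℂ) := by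
      rw [Finset.mul_sum]
      refine Fintype.sum_equiv (Equiv.mulLeft (⟨u, Subgroup.mem_zpowers u⟩ : Subgroup.zpowers u)) _ _ fun x => ?_
      rw [Equiv.coe_mulLeft, map_mul, Units.val_mul, hμ]
    have h3 : ω ≠ 1 := hω.ne_one hp.out.one_lt
    have h4 : (ω - 1) * ∑ x : Subgroup.zpowers u, ((μ x : ℂˣ) : ℂ) = 0 := by
      rw [sub_mul, h2, one_mul, sub_self]
    exact (mul_eq_zero.1 h4).resolve_left (sub_ne_zero.2 h3)
  rw [← map_sum, h1, map_zero]

section Setup

variable [Finite G] {p : ℕ} [hp : Fact p.Prime] {u : G} {C T : Subgroup G}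

/-- all the data -/
structure Hyp (p : ℕ) (u : G) (C T : Subgroup G) (θ : T → ℂ) : Prop where
  ord : orderOf u = p
  cent : C = Subgroup.centralizer ({u} : Set G)
  le : T ≤ C
  card : Nat.card C = p * Nat.card T
  notMem : u ∉ T
  pows : ∀ k : ℕ, ¬ p ∣ k → ∃ n : G, n * u * n⁻¹ = u ^ k
  norm : ∀ g ∈ Subgroup.normalizer ((Subgroup.zpowers u : Subgroup G) : Set G), ∀ t ∈ T, g * t * g⁻¹ ∈ T
  irr : IsIrrCharacter T θ
  deg : (charDegree θ).factorization p = (Nat.card T).factorization p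
  inv : ∀ g ∈ Subgroup.normalizer ((Subgroup.zpowers u : Subgroup G) : Set G), ∀ t t' : T,
    (t' : G) = g * t * g⁻¹ → θ t' = θ t

theorem Hyp.mem_norm {θ : T → ℂ} (h : Hyp p u C T θ) {n : G} {k : ℕ} (hk : ¬ p ∣ k) (hn : n * u * n⁻¹ = u ^ k) :
    n ∈ Subgroup.normalizer ((Subgroup.zpowers u : Subgroup G) : Set G) := by
  have h1 : Subgroup.map (MulAut.conj n).toMonoidHom (Subgroup.zpowers u) = Subgroup.zpowers u := by
    rw [MonoidHom.map_zpowers]
    have h2 : (MulAut.conj n).toMonoidHom u = u ^ k := by simpa only [_root_.MulEquiv.toMonoidHom_eq_coe, _root_.MonoidHom.coe_coe, _root_.MulAut.conj_apply] using hn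
    rw [h2]
    apply Subgroup.eq_of_le_of_card_ge
    · rw [Subgroup.zpowers_le]
      exact pow_mem (Subgroup.mem_zpowers u) k
    · rw [Nat.card_zpowers, Nat.card_zpowers, Nat.Coprime.orderOf_pow]
      rw [h.ord]
      exact (Nat.Prime.coprime_iff_not_dvd hp.out).2 hk
  rw [Subgroup.mem_normalizer_iff]
  intro x
  constructor
  · intro hx
    rw [← h1]
    exact ⟨x, hx, by simp⟩
  · intro hx
    rw [← h1] at hx
    obtain ⟨y, hy, hyx⟩ := hx
    have h3 : n * y * n⁻¹ = n * x * n⁻¹ := by simpa only [_root_.mul_left_inj, _root_.mul_right_inj, _root_.MulEquiv.toMonoidHom_eq_coe, _root_.MonoidHom.coe_coe, _root_.MulAut.conj_apply] using hyx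
    have h4 : y = x := by
      have := mul_right_cancel h3
      exact mul_left_cancel this
    rw [← h4]
    exact hy

/-- The inner product of `t ↦ χ (u t)` with `θ` is an integer. -/
theorem exists_int {θ : T → ℂ} (h : Hyp p u C T θ) [Fintype T] {χ : G → ℂ} (hχ : IsCharacter G χ) :
    ∃ a : ℤ, classInner (fun t : T => χ (u * t)) θ = a := by
  obtain ⟨E, hE⟩ := exists_equiv h.ord h.cent h.le h.card h.notMem
  have : Fintype C := Fintype.ofFinite C
  have : Fintype (Subgroup.zpowers u) := Fintype.ofFinite _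
  have hθ := isIrr_isCharacter h.irr
  obtain ⟨μ, hμ⟩ := exists_linear_sum (G := G) h.ord
  have hf1 : IsCharacter C (θ ∘ ((MonoidHom.snd (Subgroup.zpowers u) T).comp E.symm.toMonoidHom)) :=
    isCharacter_comp _ hθ
  have hf2 : IsCharacter C ((fun x => ((μ x : ℂˣ) : ℂ)) ∘
      ((MonoidHom.fst (Subgroup.zpowers u) T).comp E.symm.toMonoidHom)) :=
    isCharacter_comp _ (Characters.Linear.isCharacter_hom μ)
  have hres : IsCharacter C (χ ∘ C.subtype) := isCharacter_comp C.subtype hχ
  obtain ⟨m0, hm0⟩ := classInner_isNat hres hf1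
  obtain ⟨m1, hm1⟩ := classInner_isNat hres (isCharacter_mul hf2 hf1)
  have hsum : ∀ F : (Subgroup.zpowers u) × T → ℂ, ∑ c : C, F (E.symm c) = ∑ x, ∑ t, F (x, t) := by
    intro F
    rw [← Fintype.sum_prod_type]
    exact Fintype.sum_equiv E.symm.toEquiv _ _ fun c => rfl
  obtain ⟨S, hS⟩ : ∃ S : G → ℂ, ∀ x, S x = ∑ t : T, χ (x * t) * conj (θ t) := ⟨_, fun x => rfl⟩
  -- `S` is constant on the nontrivial elements of `⟨u⟩`
  have hSinv : ∀ x : Subgroup.zpowers u, x ≠ 1 → S x = S u := by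
    rintro ⟨x, hx⟩ hx1
    obtain ⟨k, rfl⟩ := mem_powers_iff_mem_zpowers.2 hx
    have hk : ¬ p ∣ k := by
      rintro ⟨m, rfl⟩
      apply hx1
      apply Subtype.ext
      change u ^ (p * m) = 1
      rw [pow_mul, ← h.ord, pow_orderOf_eq_one, one_pow]
    obtain ⟨n, hn⟩ := h.pows k hk
    have hnN := h.mem_norm hk hn
    change S (u ^ k) = S u
    rw [hS, hS]
    -- the automorphism `t ↦ n t n⁻¹` of `T`
    let f : T → T := fun t => ⟨n * t * n⁻¹, h.norm n hnN t t.2⟩
    have hf : Function.Injective f := by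
      intro a b hab
      have h3 : n * (a : G) * n⁻¹ = n * (b : G) * n⁻¹ := congrArg Subtype.val hab
      exact Subtype.ext (mul_left_cancel (mul_right_cancel h3))
    have hfb : Function.Bijective f := Finite.injective_iff_bijective.1 hf
    symm
    refine Fintype.sum_bijective f hfb _ _ fun t => ?_
    have h4 : (u ^ k * ((f t : T) : G)) = n * (u * t) * n⁻¹ := by
      change u ^ k * (n * (t : G) * n⁻¹) = _
      rw [← hn]
      group
    rw [h4, isCharacter_isClassFunction hχ, h.inv n hnN t (f t) rfl]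
  have hA : ∑ c : C, (χ ∘ C.subtype) c *
      conj ((θ ∘ ((MonoidHom.snd (Subgroup.zpowers u) T).comp E.symm.toMonoidHom)) c) =
      ∑ x : Subgroup.zpowers u, S x := by
    simp only [hS]
    rw [← hsum (fun q => χ ((q.1 : G) * q.2) * conj (θ q.2))]
    refine Finset.sum_congr rfl fun c _ => ?_
    have h1 : (c : G) = ((E.symm c).1 : G) * (E.symm c).2 := by
      rw [← hE, Prod.mk.eta, MulEquiv.apply_symm_apply]
    change χ (c : G) * conj (θ (E.symm c).2) = _
    rw [← h1]
  have hB : ∑ c : C, (χ ∘ C.subtype) c *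
      conj ((((fun x => ((μ x : ℂˣ) : ℂ)) ∘
      ((MonoidHom.fst (Subgroup.zpowers u) T).comp E.symm.toMonoidHom)) *
        (θ ∘ ((MonoidHom.snd (Subgroup.zpowers u) T).comp E.symm.toMonoidHom))) c) =
      ∑ x : Subgroup.zpowers u, conj ((μ x : ℂˣ) : ℂ) * S x := by
    simp only [hS, Finset.mul_sum]
    rw [← hsum (fun q => conj ((μ q.1 : ℂˣ) : ℂ) * (χ ((q.1 : G) * q.2) * conj (θ q.2)))]
    refine Finset.sum_congr rfl fun c _ => ?_
    have h1 : (c : G) = ((E.symm c).1 : G) * (E.symm c).2 := by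
      rw [← hE, Prod.mk.eta, MulEquiv.apply_symm_apply]
    change χ (c : G) * conj (((μ (E.symm c).1 : ℂˣ) : ℂ) * θ (E.symm c).2) = _
    rw [← h1, map_mul]
    ring
  classical
  have hcardZ : Fintype.card (Subgroup.zpowers u) = p := by
    rw [← Nat.card_eq_fintype_card, Nat.card_zpowers, h.ord]
  have hA2 : ∑ x : Subgroup.zpowers u, S x = S 1 + ((p : ℂ) - 1) * S u := by
    rw [← Finset.add_sum_erase Finset.univ (fun x : Subgroup.zpowers u => S x) (Finset.mem_univ 1)]
    rw [Finset.sum_congr rfl (g := fun _ => S u) (fun x hx => hSinv x (Finset.ne_of_mem_erase hx)),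
      Finset.sum_const, Finset.card_erase_of_mem (Finset.mem_univ _), Finset.card_univ, hcardZ, nsmul_eq_mul,
      Nat.cast_sub hp.out.one_lt.le, Nat.cast_one, OneMemClass.coe_one]
  have hB2 : ∑ x : Subgroup.zpowers u, conj ((μ x : ℂˣ) : ℂ) * S x = S 1 - S u := by
    rw [← Finset.add_sum_erase Finset.univ (fun x : Subgroup.zpowers u => conj ((μ x : ℂˣ) : ℂ) * S x)
      (Finset.mem_univ 1)]
    rw [← Finset.add_sum_erase Finset.univ (fun x : Subgroup.zpowers u => conj ((μ x : ℂˣ) : ℂ))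
      (Finset.mem_univ 1)] at hμ
    rw [Finset.sum_congr rfl (g := fun x : Subgroup.zpowers u => conj ((μ x : ℂˣ) : ℂ) * S u)
      (fun x hx => by rw [hSinv x (Finset.ne_of_mem_erase hx)]), ← Finset.sum_mul]
    simp only [map_one, Units.val_one, one_mul, OneMemClass.coe_one] at hμ ⊢
    linear_combination (S u) * hμ
  rw [Characters.Core.classInner_def, hA, hA2] at hm0
  rw [Characters.Core.classInner_def, hB, hB2] at hm1
  have hcardC : (Nat.card C : ℂ) = p * Nat.card T := by
    rw [h.card]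
    push_cast
    ring
  have hT0 : (Nat.card T : ℂ) ≠ 0 := by exact_mod_cast Nat.card_pos.ne'
  have hp0 : (p : ℂ) ≠ 0 := by exact_mod_cast hp.out.ne_zero
  refine ⟨(m0 : ℤ) - m1, ?_⟩
  rw [Characters.Core.classInner_def]
  change (Nat.card T : ℂ)⁻¹ * ∑ t : T, χ (u * t) * conj (θ t) = _
  rw [← hS]
  push_cast
  rw [← hm0, ← hm1, hcardC]
  field_simp
  ring

/-- `θ` vanishes at the `p`-singular elements. -/
theorem Hyp.zero {M : Ideal AlgInt} (hM : IsPModular p M) {θ : T → ℂ} (h : Hyp p u C T θ) {t : T}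
    (ht : p ∣ orderOf t) : θ t = 0 :=
  eq_zero_of_dvd hM ⟨θ, h.irr⟩ h.deg ht

omit [Finite G] hp in
theorem Hyp.comm {θ : T → ℂ} (h : Hyp p u C T θ) (t : T) : Commute u (t : G) := by
  have h1 : (t : G) ∈ Subgroup.centralizer ({u} : Set G) := by rw [← h.cent]; exact h.le t.2
  exact (Subgroup.mem_centralizer_singleton_iff.1 h1).symm

theorem Hyp.ppart {θ : T → ℂ} (h : Hyp p u C T θ) {t : T} (ht : ¬ p ∣ orderOf t) :
    IsPPart p (u * (t : G)) u :=
  Cfsg.Agent.Blocks.PPart.isPPart_mul (h.comm t) ⟨1, by rw [h.ord, pow_one]⟩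
    (by rwa [Subgroup.orderOf_coe])

/-- Parseval: the squares of the inner products sum up to `p`. -/
theorem total {M : Ideal AlgInt} (hM : IsPModular p M) {θ : T → ℂ} (h : Hyp p u C T θ) [Fintype T]
    [Fintype (IrrCharacter G)] :
    ∑ χ : IrrCharacter G, classInner (fun t : T => (χ : G → ℂ) (u * t)) θ *
      conj (classInner (fun t : T => (χ : G → ℂ) (u * t)) θ) = p := by
  classical
  obtain ⟨E, hE⟩ := exists_equiv h.ord h.cent h.le h.card h.notMem
  have : Fintype G := Fintype.ofFinite G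
  have : Fintype C := Fintype.ofFinite C
  obtain ⟨e, he⟩ : ∃ e : G → ℂ, ∀ x, e x = ∑ t : T, if x = u * t then θ t else 0 := ⟨_, fun x => rfl⟩
  have hes : ∀ g : G → ℂ, ∑ x, e x * g x = ∑ t : T, θ t * g (u * t) := by
    intro g
    simp only [he, Finset.sum_mul, ite_mul, zero_mul]
    rw [Finset.sum_comm]
    refine Finset.sum_congr rfl fun t _ => ?_
    rw [Finset.sum_ite_eq' Finset.univ (u * (t : G)) (fun x => θ t * g x), if_pos (Finset.mem_univ _)]
  have heu : ∀ t : T, e (u * t) = θ t := by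
    intro t
    rw [he, Finset.sum_eq_single t]
    · rw [if_pos rfl]
    · intro t' _ ht'
      rw [if_neg]
      intro h1
      exact ht' (Subtype.ext (mul_left_cancel h1)).symm
    · intro h1
      exact absurd (Finset.mem_univ t) h1
  have he0 : ∀ x : G, (∀ t : T, x = u * t → θ t = 0) → e x = 0 := by
    intro x hx
    rw [he]
    refine Finset.sum_eq_zero fun t _ => ?_
    by_cases h1 : x = u * t
    · rw [if_pos h1, hx t h1]
    · rw [if_neg h1]
  obtain ⟨F, hF⟩ : ∃ F : G → ℂ, ∀ g, F g = ∑ x : G, e (x * g * x⁻¹) := ⟨_, fun x => rfl⟩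
  have hFc : IsClassFunction G F := by
    intro g y
    rw [hF, hF]
    refine Fintype.sum_equiv (Equiv.mulRight y) _ _ fun x => ?_
    rw [Equiv.coe_mulRight]
    congr 1
    group
  have hG0 : (Nat.card G : ℂ) ≠ 0 := by exact_mod_cast Nat.card_pos.ne'
  have hT0 : (Nat.card T : ℂ) ≠ 0 := by exact_mod_cast Nat.card_pos.ne'
  have key : ∀ χ : G → ℂ, IsClassFunction G χ → classInner F χ = ∑ t : T, θ t * conj (χ (u * t)) := by
    intro χ hχ
    rw [Characters.Core.classInner_def]
    have h1 : ∑ g : G, F g * conj (χ g) = ∑ x : G, ∑ g : G, e (x * g * x⁻¹) * conj (χ g) := by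
      rw [Finset.sum_comm]
      refine Finset.sum_congr rfl fun g _ => ?_
      rw [hF, Finset.sum_mul]
    have h2 : ∀ x : G, ∑ g : G, e (x * g * x⁻¹) * conj (χ g) = ∑ t : T, θ t * conj (χ (u * t)) := by
      intro x
      rw [← hes (fun g => conj (χ g))]
      refine Fintype.sum_equiv (MulAut.conj x).toEquiv _ _ fun g => ?_
      have h3 : (MulAut.conj x).toEquiv g = x * g * x⁻¹ := by simp
      rw [h3, hχ]
    rw [h1, Finset.sum_congr rfl fun x _ => h2 x, Finset.sum_const, Finset.card_univ, nsmul_eq_mul,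
      ← Nat.card_eq_fintype_card, ← mul_assoc, inv_mul_cancel₀ hG0, one_mul]
  -- the values of `F`
  have hFu : ∀ t : T, ¬ p ∣ orderOf t → F (u * t) = (p * Nat.card T : ℂ) * θ t := by
    intro t ht
    have hin : ∀ c : C, e ((c : G) * (u * t) * (c : G)⁻¹) = θ t := by
      intro c
      obtain ⟨⟨x, s⟩, rfl⟩ := E.surjective c
      rw [hE]
      have hxu : Commute (x : G) u := by
        obtain ⟨k, hk⟩ := Subgroup.mem_zpowers_iff.1 x.2
        rw [← hk]
        exact (Commute.refl u).zpow_left k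
      have hxt : Commute (x : G) ((s * t * s⁻¹ : T) : G) := by
        obtain ⟨k, hk⟩ := Subgroup.mem_zpowers_iff.1 x.2
        rw [← hk]
        exact (h.comm _).zpow_left k
      have hsu : Commute (s : G) u := (h.comm s).symm
      have h1 : (x : G) * s * (u * t) * ((x : G) * s)⁻¹ = u * ((s * t * s⁻¹ : T) : G) := by
        calc (x : G) * s * (u * t) * ((x : G) * s)⁻¹ = x * (s * u) * t * (s : G)⁻¹ * (x : G)⁻¹ := by group
          _ = x * (u * s) * t * (s : G)⁻¹ * (x : G)⁻¹ := by rw [hsu.eq]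
          _ = (x * u) * (s * t * (s : G)⁻¹) * (x : G)⁻¹ := by group
          _ = (u * x) * (s * t * (s : G)⁻¹) * (x : G)⁻¹ := by rw [hxu.eq]
          _ = u * (x * ((s * t * s⁻¹ : T) : G)) * (x : G)⁻¹ := by
                push_cast
                group
          _ = u * (((s * t * s⁻¹ : T) : G) * x) * (x : G)⁻¹ := by rw [hxt.eq]
          _ = u * ((s * t * s⁻¹ : T) : G) := by group
      rw [h1, heu]
      exact isIrr_isClassFunction h.irr t s
    have hout : ∀ x : G, x ∉ C → e (x * (u * t) * x⁻¹) = 0 := by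
      intro x hx
      apply he0
      intro t' ht'
      by_contra h0
      have hreg : ¬ p ∣ orderOf t' := fun h1 => h0 (h.zero hM h1)
      apply hx
      have h1 := h.ppart ht
      have h2 := Cfsg.Agent.Blocks.PPart.isPPart_conj h1 x
      rw [ht'] at h2
      have h3 := Cfsg.Agent.Blocks.PPart.isPPart_unique h2 (h.ppart hreg)
      rw [h.cent, Subgroup.mem_centralizer_singleton_iff]
      exact mul_inv_eq_iff_eq_mul.1 h3
    rw [hF]
    have h4 : ∑ x : G, e (x * (u * t) * x⁻¹) = ∑ c : C, θ t := by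
      symm
      refine Fintype.sum_of_injective (Subtype.val : C → G) Subtype.val_injective _ _ ?_ ?_
      · intro x hx
        exact hout x fun hxC => hx ⟨⟨x, hxC⟩, rfl⟩
      · intro c
        exact (hin c).symm
    rw [h4, Finset.sum_const, Finset.card_univ, nsmul_eq_mul, ← Nat.card_eq_fintype_card, h.card]
    push_cast
    ring
  have hnorm : classInner F F = (p : ℂ) * (Nat.card T * Nat.card T) := by
    rw [key F hFc]
    have h1 : ∀ t : T, θ t * conj (F (u * t)) = (p * Nat.card T : ℂ) * (θ t * conj (θ t)) := by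
      intro t
      by_cases ht : p ∣ orderOf t
      · rw [h.zero hM ht]
        simp only [_root_.MulZeroClass.zero_mul, _root_.Nat.card_eq_fintype_card, _root_.map_zero, _root_.MulZeroClass.mul_zero]
      · rw [hFu t ht, map_mul, map_mul, Complex.conj_natCast, Complex.conj_natCast]
        ring
    rw [Finset.sum_congr rfl fun t _ => h1 t, ← Finset.mul_sum]
    have h2 := classInner_irr_self h.irr
    rw [Characters.Core.classInner_def] at h2
    have h3 : ∑ t : T, θ t * conj (θ t) = Nat.card T := by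
      rw [inv_mul_eq_iff_eq_mul₀ hT0, mul_one] at h2
      exact h2
    rw [h3]
    ring
  have hpars := classInner_eq_sum hFc hFc
  rw [hnorm] at hpars
  have hc : ∀ χ : IrrCharacter G, classInner F (χ : G → ℂ) =
      Nat.card T * conj (classInner (fun t : T => (χ : G → ℂ) (u * t)) θ) := by
    intro χ
    rw [key _ (isIrr_isClassFunction χ.2), Characters.Core.classInner_def, map_mul, map_inv₀, Complex.conj_natCast, map_sum,
      ← mul_assoc, mul_inv_cancel₀ hT0, one_mul]
    refine Finset.sum_congr rfl fun t _ => ?_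
    rw [map_mul, Complex.conj_conj]
    ring
  have h5 : ∑ χ : IrrCharacter G, classInner F (χ : G → ℂ) * conj (classInner F (χ : G → ℂ)) =
      (Nat.card T * Nat.card T : ℂ) * ∑ χ : IrrCharacter G, classInner (fun t : T => (χ : G → ℂ) (u * t)) θ *
      conj (classInner (fun t : T => (χ : G → ℂ) (u * t)) θ) := by
    rw [Finset.mul_sum]
    refine Finset.sum_congr rfl fun χ _ => ?_
    rw [hc, map_mul, Complex.conj_natCast, Complex.conj_conj]
    ring
  rw [h5] at hpars
  have h6 : (Nat.card T * Nat.card T : ℂ) ≠ 0 := mul_ne_zero hT0 hT0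
  apply mul_left_cancel₀ h6
  rw [← hpars]
  ring

theorem cn_eq : Subgroup.centralizer ((Subgroup.zpowers u : Subgroup G) : Set G) =
    Subgroup.centralizer ({u} : Set G) := by
  rw [Subgroup.zpowers_eq_closure, Subgroup.centralizer_closure]

/-- The inertial index is `p - 1`. -/
theorem relIndex_eq {θ : T → ℂ} (h : Hyp p u C T θ) :
    (Subgroup.centralizer ((Subgroup.zpowers u : Subgroup G) : Set G)).relIndex
      (Subgroup.normalizer ((Subgroup.zpowers u : Subgroup G) : Set G)) = p - 1 := by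
  obtain ⟨N, hN⟩ : ∃ N : Subgroup G, N = Subgroup.normalizer ((Subgroup.zpowers u : Subgroup G) : Set G) :=
    ⟨_, rfl⟩
  have huN : u ∈ N := by
    rw [hN]
    exact Subgroup.le_normalizer (Subgroup.mem_zpowers u)
  have hconjN : ∀ n ∈ N, n * u * n⁻¹ ∈ Subgroup.zpowers u := by
    intro n hn
    rw [hN] at hn
    exact (Subgroup.mem_normalizer_iff.1 hn u).1 (Subgroup.mem_zpowers u)
  rw [← hN, Subgroup.relIndex, cn_eq]
  have h1 : (Subgroup.centralizer ({u} : Set G)).subgroupOf N = Subgroup.centralizer ({(⟨u, huN⟩ : N)} : Set N) := by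
    ext x
    rw [Subgroup.mem_subgroupOf, Subgroup.mem_centralizer_singleton_iff, Subgroup.mem_centralizer_singleton_iff,
      ← Subtype.coe_inj]
    rfl
  rw [h1, Cfsg.Agent.Characters.CentralCharacter.index_centralizer_eq_card]
  have hu1 : u ≠ 1 := by
    intro h2
    have h3 := h.ord
    rw [h2, orderOf_one] at h3
    exact hp.out.one_lt.ne h3
  let f : {x : N // IsConj (⟨u, huN⟩ : N) x} → {y : Subgroup.zpowers u // y ≠ 1} := fun x =>
    ⟨⟨x.1, by
      obtain ⟨n, hn⟩ := isConj_iff.1 x.2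
      rw [← hn]
      exact hconjN n n.2⟩, by
      intro h2
      obtain ⟨n, hn⟩ := isConj_iff.1 x.2
      have h3 : (x.1 : G) = 1 := congrArg Subtype.val h2
      rw [← hn] at h3
      have h4 : (n : G) * u * (n : G)⁻¹ = 1 := h3
      rw [conj_eq_one_iff] at h4
      exact hu1 h4⟩
  have hf : Function.Bijective f := by
    constructor
    · intro x y hxy
      apply Subtype.ext
      apply Subtype.ext
      exact congrArg (fun z => ((z.1 : Subgroup.zpowers u) : G)) hxy
    · rintro ⟨⟨y, hy⟩, hy1⟩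
      obtain ⟨k, rfl⟩ := mem_powers_iff_mem_zpowers.2 hy
      have hk : ¬ p ∣ k := by
        rintro ⟨m, rfl⟩
        apply hy1
        apply Subtype.ext
        change u ^ (p * m) = 1
        rw [pow_mul, ← h.ord, pow_orderOf_eq_one, one_pow]
      obtain ⟨n, hn⟩ := h.pows k hk
      have hnN := h.mem_norm hk hn
      rw [← hN] at hnN
      refine ⟨⟨⟨u ^ k, pow_mem huN k⟩, isConj_iff.2 ⟨⟨n, hnN⟩, Subtype.ext hn⟩⟩, ?_⟩
      rfl
  rw [Nat.card_congr (Equiv.ofBijective f hf)]
  classical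
  have : Fintype (Subgroup.zpowers u) := Fintype.ofFinite _
  rw [Nat.card_eq_fintype_card, Fintype.card_subtype_compl, Fintype.card_subtype_eq,
    ← Nat.card_eq_fintype_card, Nat.card_zpowers, h.ord]

/-- The number of members of the block is `p`. -/
theorem card_block {M : Ideal AlgInt} (hM : IsPModular p M) {θ : T → ℂ} (h : Hyp p u C T θ)
    (θ' : IrrCharacter C)
    (hconj : ∀ n ∈ Subgroup.normalizer ((Subgroup.zpowers u : Subgroup G) : Set G), ∀ c c' : C,
      (c' : G) = n * (c : G) * n⁻¹ → (θ' : C → ℂ) c' = (θ' : C → ℂ) c)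
    {B : Set (IrrCharacter G)} (hB : IsPBlock M B) (hdef : IsDefectGroup p M B (Subgroup.zpowers u))
    (hind : IsInducedBlock M C (blockOf M (θ' : C → ℂ)) B) : Nat.card B = p := by
  have hrel := relIndex_eq h
  have hC := h.cent
  rw [← cn_eq] at hC
  subst hC
  obtain ⟨-, -, X, Y, hXY, hdis, hX, hY, -⟩ := Cfsg.Agent.S4696.result p M hM (Subgroup.zpowers u)
    inferInstance 1 le_rfl (by rw [Nat.card_zpowers, h.ord, pow_one]) B hB hdef _ hind
    (Subgroup.normalizer ((Subgroup.zpowers u : Subgroup G) : Set G)) (by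
      intro g
      refine ⟨fun hg => ⟨hg, ?_⟩, fun hg => hg.1⟩
      intro ξ hξ ξ' hξ'
      let e : ↥(Subgroup.centralizer ((Subgroup.zpowers u : Subgroup G) : Set G)) ≃*
          ↥(Subgroup.centralizer ((Subgroup.zpowers u : Subgroup G) : Set G)) :=
        Cfsg.Agent.Blocks.ExtendedFMT.conjL _ g
          (fun x hx => Cfsg.Agent.H593.D1Local.conj_mem_centralizer hg hx)
          (fun x hx => by
            have := Cfsg.Agent.H593.D1Local.conj_mem_centralizer (inv_mem hg) hx
            rwa [inv_inv] at this)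
      have h1 : Cfsg.Agent.Blocks.ExtendedFMT.compIrr e ξ' = ξ := by
        apply Subtype.ext
        funext x
        rw [Cfsg.Agent.Blocks.ExtendedFMT.compIrr_apply]
        exact hξ' x (e x) rfl
      have h2 : Cfsg.Agent.Blocks.ExtendedFMT.compIrr e θ' = θ' := by
        apply Subtype.ext
        funext x
        rw [Cfsg.Agent.Blocks.ExtendedFMT.compIrr_apply]
        exact hconj g hg x (e x) rfl
      have h3 := Cfsg.Agent.Blocks.ExtendedFMT.sameBlock_compIrr (M := M) e.symm (θ := θ') (ψ := ξ) hξ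
      rw [← h1, Cfsg.Agent.Blocks.ExtendedFMT.compIrr_symm_compIrr] at h3
      have h4 : Cfsg.Agent.Blocks.ExtendedFMT.compIrr e.symm θ' = θ' := by
        conv_lhs => rw [← h2]
        exact Cfsg.Agent.Blocks.ExtendedFMT.compIrr_symm_compIrr e θ'
      rw [h4] at h3
      exact h3) (p - 1) hrel
  have : Finite (IrrCharacter G) := finite_irr
  rw [hXY, Nat.card_coe_set_eq, Set.ncard_union_eq hdis (Set.toFinite X) (Set.toFinite Y), ← Nat.card_coe_set_eq,
    ← Nat.card_coe_set_eq, hX, hY, pow_one, Nat.div_self (by have := hp.out.two_le; omega)]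
  have := hp.out.two_le
  omega

/-- The induced central character as a double sum. -/
theorem induced_eq {θ : T → ℂ} (h : Hyp p u C T θ) (θ' : IrrCharacter C)
    (hθ' : ∀ (c : C) (x : G) (t : T), x ∈ Subgroup.zpowers u → (c : G) = x * t → (θ' : C → ℂ) c = θ t)
    [Fintype (Subgroup.zpowers u)] [Fintype T] [DecidableRel (fun a b : G => IsConj a b)] (g : G) :
    inducedCentralChar C (θ' : C → ℂ) g =
      ∑ x : Subgroup.zpowers u, ∑ t : T, if IsConj g ((x : G) * t) then θ t / θ 1 else 0 := by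
  classical
  obtain ⟨E, hE⟩ := exists_equiv h.ord h.cent h.le h.card h.notMem
  have : Fintype C := Fintype.ofFinite C
  have hsum : ∀ F : (Subgroup.zpowers u) × T → ℂ, ∑ c : C, F (E.symm c) = ∑ x, ∑ t, F (x, t) := by
    intro F
    rw [← Fintype.sum_prod_type]
    exact Fintype.sum_equiv E.symm.toEquiv _ _ fun c => rfl
  have hdec : ∀ c : C, (c : G) = ((E.symm c).1 : G) * (E.symm c).2 := by
    intro c
    rw [← hE, Prod.mk.eta, MulEquiv.apply_symm_apply]
  have hθ1 : (θ' : C → ℂ) 1 = θ 1 := hθ' 1 1 1 (one_mem _) (by simp only [_root_.OneMemClass.coe_one, _root_.mul_one])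
  unfold inducedCentralChar
  rw [finsum_mem_eq_finite_toFinset_sum _ (Set.toFinite {c : C | IsConj g (c : G)})]
  rw [← hsum (fun q => if IsConj g ((q.1 : G) * q.2) then θ q.2 / θ 1 else 0)]
  have h1 : ∑ c : C, (fun q : (Subgroup.zpowers u) × T =>
      if IsConj g ((q.1 : G) * q.2) then θ q.2 / θ 1 else 0) (E.symm c) =
      ∑ c : C, if IsConj g (c : G) then (θ' : C → ℂ) c / (θ' : C → ℂ) 1 else 0 := by
    refine Finset.sum_congr rfl fun c _ => ?_
    rw [hθ1, hθ' c (E.symm c).1 (E.symm c).2 (E.symm c).1.2 (hdec c)]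
    simp only [← hdec]
  rw [h1, ← Finset.sum_filter]
  refine Finset.sum_congr ?_ fun c _ => rfl
  ext c
  simp only [_root_.isConj_iff, _root_.Set.Finite.toFinset_ofPred, _root_.Finset.mem_filter, _root_.Finset.mem_univ, _root_.true_and]

/-- at a `p`-regular element -/
theorem induced_reg {M : Ideal AlgInt} (hM : IsPModular p M) {θ : T → ℂ} (h : Hyp p u C T θ) (θ' : IrrCharacter C)
    (hθ' : ∀ (c : C) (x : G) (t : T), x ∈ Subgroup.zpowers u → (c : G) = x * t → (θ' : C → ℂ) c = θ t)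
    {g : G} (hg : ¬ p ∣ orderOf g) :
    inducedCentralChar C (θ' : C → ℂ) g = ∑ᶠ t ∈ {t : T | IsConj g (t : G)}, θ t / θ 1 := by
  classical
  have : Fintype (Subgroup.zpowers u) := Fintype.ofFinite _
  have : Fintype T := Fintype.ofFinite T
  rw [induced_eq h θ' hθ' g, finsum_mem_eq_finite_toFinset_sum _ (Set.toFinite {t : T | IsConj g (t : G)}),
    Finset.sum_eq_single (1 : Subgroup.zpowers u)]
  · rw [← Finset.sum_filter]
    refine Finset.sum_congr ?_ fun t _ => rfl
    ext t
    simp only [_root_.OneMemClass.coe_one, _root_.one_mul, _root_.isConj_iff, _root_.Finset.mem_filter, _root_.Finset.mem_univ, _root_.true_and, _root_.Set.Finite.toFinset_ofPred]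
  · intro x _ hx
    refine Finset.sum_eq_zero fun t _ => ?_
    rw [ite_eq_right_iff]
    intro hconj
    by_cases ht : p ∣ orderOf t
    · rw [h.zero hM ht, zero_div]
    · exfalso
      obtain ⟨k, hk⟩ := mem_powers_iff_mem_zpowers.2 x.2
      have hk : u ^ k = x := hk
      have hxt : Commute (x : G) (t : G) := by
        rw [← hk]
        exact (h.comm t).pow_left k
      have h1 : IsPPart p ((x : G) * t) x := by
        refine Cfsg.Agent.Blocks.PPart.isPPart_mul hxt ?_ (by rwa [Subgroup.orderOf_coe])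
        have h2 : orderOf (x : G) ∣ p := by
          rw [← h.ord, ← hk]
          exact orderOf_pow_dvd k
        rcases (Nat.dvd_prime hp.out).1 h2 with h3 | h3
        · exact ⟨0, by rw [h3, pow_zero]⟩
        · exact ⟨1, by rw [h3, pow_one]⟩
      obtain ⟨c, hc⟩ := isConj_iff.1 hconj
      have h2 := Cfsg.Agent.Blocks.PPart.isPPart_conj (Cfsg.Agent.Blocks.PPart.isPPart_of_not_dvd hg) c
      rw [hc] at h2
      have h3 := Cfsg.Agent.Blocks.PPart.isPPart_unique h1 h2
      apply hx
      apply Subtype.ext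
      rw [h3]
      simp
  · intro h1
    exact absurd (Finset.mem_univ _) h1

/-- at `u` -/
theorem induced_u {M : Ideal AlgInt} (hM : IsPModular p M) {θ : T → ℂ} (h : Hyp p u C T θ) (θ' : IrrCharacter C)
    (hθ' : ∀ (c : C) (x : G) (t : T), x ∈ Subgroup.zpowers u → (c : G) = x * t → (θ' : C → ℂ) c = θ t) :
    inducedCentralChar C (θ' : C → ℂ) u = (p : ℂ) - 1 := by
  classical
  have : Fintype (Subgroup.zpowers u) := Fintype.ofFinite _
  have : Fintype T := Fintype.ofFinite T
  have hθ0 : θ 1 ≠ 0 := isIrr_apply_one_ne_zero h.irr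
  have hu1 : u ≠ 1 := by
    intro h2
    have h3 := h.ord
    rw [h2, orderOf_one] at h3
    exact hp.out.one_lt.ne h3
  rw [induced_eq h θ' hθ' u]
  have h1 : ∀ x : Subgroup.zpowers u, ∑ t : T, (if IsConj u ((x : G) * t) then θ t / θ 1 else 0) =
      if x = 1 then 0 else 1 := by
    intro x
    obtain ⟨k, hk⟩ := mem_powers_iff_mem_zpowers.2 x.2
    have hk : u ^ k = x := hk
    have hxp : ∃ k : ℕ, orderOf (x : G) = p ^ k := by
      have h2 : orderOf (x : G) ∣ p := by
        rw [← h.ord, ← hk]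
        exact orderOf_pow_dvd k
      rcases (Nat.dvd_prime hp.out).1 h2 with h3 | h3
      · exact ⟨0, by rw [h3, pow_zero]⟩
      · exact ⟨1, by rw [h3, pow_one]⟩
    rw [Finset.sum_eq_single (1 : T)]
    · by_cases hx : x = 1
      · rw [if_pos hx, if_neg]
        rw [hx]
        intro h2
        rw [OneMemClass.coe_one, OneMemClass.coe_one, mul_one, isConj_one_left] at h2
        exact hu1 h2
      · rw [if_neg hx, if_pos, div_self hθ0]
        rw [OneMemClass.coe_one, mul_one]
        have hk1 : ¬ p ∣ k := by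
          rintro ⟨m, rfl⟩
          apply hx
          apply Subtype.ext
          rw [← hk, pow_mul, ← h.ord, pow_orderOf_eq_one, one_pow]
          rfl
        obtain ⟨n, hn⟩ := h.pows k hk1
        rw [← hk]
        exact isConj_iff.2 ⟨n, hn⟩
    · intro t _ ht1
      rw [ite_eq_right_iff]
      intro hconj
      by_cases ht : p ∣ orderOf t
      · rw [h.zero hM ht, zero_div]
      · exfalso
        have hxt : Commute (x : G) (t : G) := by
          rw [← hk]
          exact (h.comm t).pow_left k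
        have h2 : IsPPart p ((x : G) * t) x :=
          Cfsg.Agent.Blocks.PPart.isPPart_mul hxt hxp (by rwa [Subgroup.orderOf_coe])
        obtain ⟨c, hc⟩ := isConj_iff.1 hconj
        have h3 : IsPPart p u u := by
          have h4 := Cfsg.Agent.Blocks.PPart.isPPart_mul (Commute.one_right u) ⟨1, by rw [h.ord, pow_one]⟩
            (y := 1) (by rw [orderOf_one]; exact fun h5 => hp.out.one_lt.ne' (Nat.dvd_one.1 h5))
          rwa [mul_one] at h4
        have h4 := Cfsg.Agent.Blocks.PPart.isPPart_conj h3 c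
        rw [hc] at h4
        have h5 := Cfsg.Agent.Blocks.PPart.isPPart_unique h4 h2
        apply ht1
        apply Subtype.ext
        have h6 : (x : G) * (t : G) = x * 1 := by rw [mul_one]; exact h5
        exact mul_left_cancel h6
    · intro h2
      exact absurd (Finset.mem_univ _) h2
  rw [Finset.sum_congr rfl fun x _ => h1 x]
  have h2 : ∑ x : Subgroup.zpowers u, (if x = 1 then (0 : ℂ) else 1) =
      ∑ x : Subgroup.zpowers u, (1 - if x = 1 then (1 : ℂ) else 0) := by
    refine Finset.sum_congr rfl fun x _ => ?_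
    split_ifs <;> norm_num
  rw [h2, Finset.sum_sub_distrib, Finset.sum_const, Finset.card_univ, nsmul_eq_mul, mul_one,
    Finset.sum_ite_eq' Finset.univ (1 : Subgroup.zpowers u) (fun _ => (1 : ℂ)), if_pos (Finset.mem_univ _),
    ← Nat.card_eq_fintype_card, Nat.card_zpowers, h.ord]

/-- **The block over `⟨u⟩ × θ`.** -/
theorem exists_blk {M : Ideal AlgInt} (hM : IsPModular p M) {θ : T → ℂ} (h : Hyp p u C T θ) [Fintype T] :
    ∃ (B : Set (IrrCharacter G)) (θ' : IrrCharacter C) (a : IrrCharacter G → ℤ),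
      (∀ (c : C) (x : G) (t : T), x ∈ Subgroup.zpowers u → (c : G) = x * t → (θ' : C → ℂ) c = θ t) ∧
      IsPBlock M B ∧ IsDefectGroup p M B (Subgroup.zpowers u) ∧
      IsInducedBlock M C (blockOf M (θ' : C → ℂ)) B ∧ Nat.card B = p ∧
      (∀ χ ∈ B, a χ = 1 ∨ a χ = -1) ∧ (∀ χ ∉ B, a χ = 0) ∧
      (∀ χ : IrrCharacter G, classInner (fun t : T => (χ : G → ℂ) (u * t)) θ = a χ) ∧
      (∀ χ ∈ B, ∀ t : T, ¬ p ∣ orderOf t → (χ : G → ℂ) (u * t) = a χ * θ t) ∧
      (∀ x : G, ¬ p ∣ orderOf x → ∑ᶠ χ ∈ B, (a χ : ℂ) * (χ : G → ℂ) x = 0) ∧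
      (∀ χ ∈ B, ∀ g : G, ¬ p ∣ orderOf g →
        MemLocalIdeal M (∑ᶠ t ∈ {t : T | IsConj g (t : G)}, θ t / θ 1 - centralChar (χ : G → ℂ) g)) ∧
      (∀ χ ∈ B, MemLocalIdeal M ((p : ℂ) - 1 - centralChar (χ : G → ℂ) u)) ∧
      (∀ χ ∈ B, p * Nat.card T * charDegree (χ : G → ℂ) ∣ Nat.card G * charDegree θ) := by
  classical
  have hMp : M.IsPrime := isPrime_of_isPModular hM
  obtain ⟨E, hE⟩ := exists_equiv h.ord h.cent h.le h.card h.notMem
  obtain ⟨θ', hθ'⟩ := exists_ext E hE ⟨θ, h.irr⟩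
  have hdec : ∀ c : C, ∃ x ∈ Subgroup.zpowers u, ∃ t : T, (c : G) = x * t := by
    intro c
    refine ⟨(E.symm c).1, (E.symm c).1.2, (E.symm c).2, ?_⟩
    rw [← hE, Prod.mk.eta, MulEquiv.apply_symm_apply]
  have hθ1 : (θ' : C → ℂ) 1 = θ 1 := hθ' 1 1 1 (one_mem _) (by simp only [_root_.OneMemClass.coe_one, _root_.mul_one])
  have hker : ∀ y : C, (y : G) ∈ Subgroup.zpowers u → (θ' : C → ℂ) y = (θ' : C → ℂ) 1 := by
    intro y hy
    rw [hθ1]
    exact hθ' y y 1 hy (by simp)
  have hcd : charDegree (θ' : C → ℂ) = charDegree θ := by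
    rw [Blocks.Basic.charDegree_def, Blocks.Basic.charDegree_def, hθ1]
  have hdeg : (Nat.card C).factorization p ≤ (charDegree (θ' : C → ℂ)).factorization p + 1 := by
    rw [hcd, h.deg, h.card, Nat.factorization_mul hp.out.ne_zero Nat.card_pos.ne', Finsupp.add_apply,
      hp.out.factorization_self, add_comm]
  have hconj : ∀ g ∈ Subgroup.normalizer ((Subgroup.zpowers u : Subgroup G) : Set G), ∀ c c' : C,
      (c' : G) = g * (c : G) * g⁻¹ → (θ' : C → ℂ) c' = (θ' : C → ℂ) c := by
    intro g hg c c' hcc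
    obtain ⟨x, hx, t, hxt⟩ := hdec c
    have h1 : g * x * g⁻¹ ∈ Subgroup.zpowers u := (Subgroup.mem_normalizer_iff.1 hg x).1 hx
    rw [hθ' c x t hx hxt, hθ' c' (g * x * g⁻¹) ⟨g * t * g⁻¹, h.norm g hg t t.2⟩ h1
      (by rw [hcc, hxt]; group)]
    exact h.inv g hg t _ rfl
  obtain ⟨B, hBb, hdef, hind, hgram⟩ := exists_block hM h.ord h.cent θ' hker hdeg hconj
  have hcardB := card_block hM h θ' hconj hBb hdef hind
  have hfin : Finite (IrrCharacter G) := finite_irr
  have hft := Fintype.ofFinite (IrrCharacter G)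
  -- the sum formula for elements of `T`
  have hsum : ∀ y y' : T, ¬ p ∣ orderOf y → ¬ p ∣ orderOf y' →
      ∑ χ : IrrCharacter G with χ ∈ B, (χ : G → ℂ) (u * y) * conj ((χ : G → ℂ) (u * y')) =
        p * (θ y * conj (θ y')) := by
    intro y y' hy hy'
    have o : ∀ w : T, orderOf (⟨w, h.le w.2⟩ : C) = orderOf w := by
      intro w
      rw [Subgroup.orderOf_mk, Subgroup.orderOf_coe]
    have h1 := hgram ⟨y, h.le y.2⟩ ⟨y', h.le y'.2⟩ (by rw [o]; exact hy) (by rw [o]; exact hy')
    rw [hθ' ⟨y, h.le y.2⟩ 1 y (one_mem _) (by simp), hθ' ⟨y', h.le y'.2⟩ 1 y' (one_mem _) (by simp),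
      finsum_mem_eq_finite_toFinset_sum _ (Set.toFinite B)] at h1
    rw [← h1]
    refine Finset.sum_congr (by ext; simp only [_root_.Finset.mem_filter, _root_.Finset.mem_univ, _root_.true_and, _root_.Set.toFinite_toFinset, _root_.Set.mem_toFinset]) fun χ _ => rfl
  have hp1 : ¬ p ∣ orderOf (1 : T) := by
    rw [orderOf_one]
    exact fun h1 => hp.out.one_lt.ne' (Nat.dvd_one.1 h1)
  have hθ0 : θ 1 ≠ 0 := isIrr_apply_one_ne_zero h.irr
  have hprop : ∀ χ ∈ B, ∀ t : T, ¬ p ∣ orderOf t → θ 1 * (χ : G → ℂ) (u * t) = θ t * (χ : G → ℂ) u := by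
    intro χ hχ t ht
    have h1 := eq_of_gram (Finset.univ.filter (fun χ : IrrCharacter G => χ ∈ B))
      (fun χ => (χ : G → ℂ) (u * t)) (fun χ => (χ : G → ℂ) (u * ((1 : T) : G)))
      (θ t) (θ 1) p (hsum t t ht ht) (hsum t 1 ht hp1) (hsum 1 t hp1 ht)
      (hsum 1 1 hp1 hp1) χ (by simp only [hχ, _root_.Finset.mem_filter, _root_.Finset.mem_univ, _root_.and_self])
    simpa only [_root_.OneMemClass.coe_one, _root_.mul_one] using h1
  -- the integers
  have hint : ∀ χ : IrrCharacter G, ∃ a : ℤ, classInner (fun t : T => (χ : G → ℂ) (u * t)) θ = a :=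
    fun χ => exists_int h (isIrr_isCharacter χ.2)
  choose a ha using hint
  have hau : ∀ χ ∈ B, (χ : G → ℂ) u = a χ * θ 1 := by
    intro χ hχ
    have h1 : ∀ t : T, (χ : G → ℂ) (u * t) * conj (θ t) =
        (χ : G → ℂ) u / θ 1 * (θ t * conj (θ t)) := by
      intro t
      by_cases ht : p ∣ orderOf t
      · rw [h.zero hM ht]
        simp
      · have h2 := hprop χ hχ t ht
        field_simp
        linear_combination (conj (θ t)) * h2
    have h2 := ha χ
    rw [Characters.Core.classInner_def, Finset.sum_congr rfl fun t _ => h1 t, ← Finset.mul_sum] at h2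
    have h3 := classInner_irr_self h.irr
    rw [Characters.Core.classInner_def] at h3
    rw [← h2]
    have h4 : (Nat.card T : ℂ) ≠ 0 := by exact_mod_cast Nat.card_pos.ne'
    field_simp
    field_simp at h3
    rw [h3]
  have hval : ∀ χ ∈ B, ∀ t : T, ¬ p ∣ orderOf t → (χ : G → ℂ) (u * t) = a χ * θ t := by
    intro χ hχ t ht
    have h1 := hprop χ hχ t ht
    rw [hau χ hχ] at h1
    apply mul_left_cancel₀ hθ0
    rw [h1]
    ring
  have hcθ : conj (θ 1) = θ 1 := by
    have := irr_one_eq_charDegree h.irr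
    rw [this, Complex.conj_natCast]
  have hsq : ∑ χ : IrrCharacter G with χ ∈ B, a χ ^ 2 = p := by
    have h1 := hsum 1 1 hp1 hp1
    have h2 : ∑ χ : IrrCharacter G with χ ∈ B,
        (χ : G → ℂ) (u * ((1 : T) : G)) * conj ((χ : G → ℂ) (u * ((1 : T) : G))) =
        ((∑ χ : IrrCharacter G with χ ∈ B, a χ ^ 2 : ℤ) : ℂ) * (θ 1 * θ 1) := by
      rw [Int.cast_sum, Finset.sum_mul]
      refine Finset.sum_congr rfl fun χ hχ => ?_
      rw [Subgroup.coe_one, mul_one, hau χ (Finset.mem_filter.1 hχ).2, map_mul, hcθ, map_intCast, Int.cast_pow]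
      ring
    rw [h2, hcθ] at h1
    have h3 := mul_right_cancel₀ (mul_ne_zero hθ0 hθ0) h1
    exact_mod_cast h3
  have htot : ∑ χ : IrrCharacter G, a χ ^ 2 = p := by
    have h1 := total hM h
    have h2 : ∑ χ : IrrCharacter G, classInner (fun t : T => (χ : G → ℂ) (u * t)) θ *
        conj (classInner (fun t : T => (χ : G → ℂ) (u * t)) θ) =
        ((∑ χ : IrrCharacter G, a χ ^ 2 : ℤ) : ℂ) := by
      rw [Int.cast_sum]
      refine Finset.sum_congr rfl fun χ _ => ?_
      rw [ha, map_intCast, Int.cast_pow]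
      ring
    rw [h2] at h1
    exact_mod_cast h1
  have hout : ∀ χ ∉ B, a χ = 0 := by
    intro χ hχ
    have h1 : ∑ χ : IrrCharacter G with ¬ χ ∈ B, a χ ^ 2 = 0 := by
      have h2 := Finset.sum_filter_add_sum_filter_not Finset.univ (fun χ : IrrCharacter G => χ ∈ B)
        (fun χ => a χ ^ 2)
      rw [hsq, htot] at h2
      linarith only [h2]
    have h2 := (Finset.sum_eq_zero_iff_of_nonneg (fun χ _ => sq_nonneg (a χ))).1 h1 χ (by simp only [hχ, _root_.Finset.mem_filter, _root_.Finset.mem_univ, _root_.not_false_eq_true, _root_.and_self])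
    exact pow_eq_zero_iff (two_ne_zero) |>.1 h2
  -- central characters
  have hcu : ∀ χ ∈ B, MemLocalIdeal M ((p : ℂ) - 1 - centralChar (χ : G → ℂ) u) := by
    intro χ hχ
    have h1 := hind.2.2 θ' (mem_blockOf_self θ') χ hχ u
    rwa [induced_u hM h θ' hθ'] at h1
  have hne : ∀ χ ∈ B, a χ ≠ 0 := by
    intro χ hχ h0
    have h1 := hcu χ hχ
    have h2 : centralChar (χ : G → ℂ) u = 0 := by
      unfold centralChar
      rw [hau χ hχ, h0]
      simp
    rw [h2, sub_zero] at h1
    have h3 : ((p : ℂ) - 1) = (((p : ℤ) - 1 : ℤ) : ℂ) := by push_cast; ring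
    rw [h3, memLocalIdeal_intCast_iff hM] at h1
    have h4 : (p : ℤ) ∣ 1 := by
      have h5 := dvd_sub (dvd_refl (p : ℤ)) h1
      rwa [sub_sub_cancel] at h5
    have h5 : p ∣ 1 := by exact_mod_cast h4
    exact hp.out.one_lt.ne' (Nat.dvd_one.1 h5)
  have hone : ∀ χ ∈ B, a χ = 1 ∨ a χ = -1 := by
    intro χ hχ
    have hge : ∀ ψ ∈ Finset.univ.filter (fun χ : IrrCharacter G => χ ∈ B), (1 : ℤ) ≤ a ψ ^ 2 := by
      intro ψ hψ
      have h1 := hne ψ (Finset.mem_filter.1 hψ).2
      have h2 : 0 < a ψ ^ 2 := by (clear * - h1; positivity)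
      omega
    have hcard : (∑ χ : IrrCharacter G with χ ∈ B, (1 : ℤ)) = p := by
      rw [Finset.sum_const, nsmul_eq_mul, mul_one, ← hcardB, Nat.card_eq_fintype_card, Fintype.card_subtype]
    have h1 : ∀ ψ ∈ Finset.univ.filter (fun χ : IrrCharacter G => χ ∈ B), (1 : ℤ) = a ψ ^ 2 := by
      apply (Finset.sum_eq_sum_iff_of_le hge).1
      rw [hcard, hsq]
    have h2 := h1 χ (by simp only [hχ, _root_.Finset.mem_filter, _root_.Finset.mem_univ, _root_.and_self])
    have h3 : (a χ - 1) * (a χ + 1) = 0 := by linarith only [h2]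
    rcases mul_eq_zero.1 h3 with h4 | h4
    · left; omega
    · right; omega
  refine ⟨B, θ', a, hθ', hBb, hdef, hind, hcardB, hone, hout, ha, hval, ?_, ?_, hcu, ?_⟩
  · intro x hx
    have h2 := Cfsg.Agent.S0907.result p M hM B hBb x u hx (by rw [h.ord])
    rw [finsum_mem_eq_finite_toFinset_sum _ (Set.toFinite B)] at h2 ⊢
    have h3 : ∑ χ ∈ (Set.toFinite B).toFinset, (χ : G → ℂ) x * conj ((χ : G → ℂ) u) =
        (∑ χ ∈ (Set.toFinite B).toFinset, (a χ : ℂ) * (χ : G → ℂ) x) * θ 1 := by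
      rw [Finset.sum_mul]
      refine Finset.sum_congr rfl fun χ hχ => ?_
      rw [hau χ (by simpa using hχ), map_mul, hcθ, map_intCast]
      ring
    rw [h3] at h2
    exact (mul_eq_zero.1 h2).resolve_right hθ0
  · intro χ hχ g hg
    have h1 := hind.2.2 θ' (mem_blockOf_self θ') χ hχ g
    rwa [induced_reg hM h θ' hθ' hg] at h1
  · intro χ hχ
    have h1 := Cfsg.Agent.Blocks.Central.isIntegral_centralChar χ.2 u
    have h2 : centralChar (χ : G → ℂ) u =
        ((C.index * charDegree θ : ℕ) : ℂ) * (a χ : ℤ) / ((charDegree (χ : G → ℂ) : ℕ) : ℂ) := by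
      unfold centralChar
      rw [hau χ hχ, irr_one_eq_charDegree h.irr, irr_one_eq_charDegree χ.2, ← h.cent]
      push_cast
      ring
    rw [h2] at h1
    have h3 := dvd_of_isIntegral (hone χ hχ) (charDegree_pos χ.2).ne' h1
    rw [← C.card_mul_index, h.card, mul_assoc (p * Nat.card T)]
    exact mul_dvd_mul_left _ h3

end Setup

end Cfsg.Agent.H591.M23.Blk
end

-- part: H691/M23/Choice
section
set_option linter.all false
open scoped Cfsg.Agent.FastGrp

-- part: H641/M23/Parity
section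
/-!
# A real constituent of odd multiplicity (helper641; (M,23) of S4929)

`exists_real_odd` : a real valued character `Φ` of `G` whose inner product over `u T` with the real valued function `θ` is
odd has a real valued irreducible constituent `χ` whose inner product over `u T` with `θ` is odd.
-/

set_option autoImplicit false

open Cfsg
open Cfsg.Agent.Characters.Core
open scoped ComplexConjugate

namespace Cfsg.Agent.H641.M23

universe v

variable {G : Type v} [Group G] [Finite G]

/-- the complex conjugate of an irreducible character -/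
noncomputable def cj (χ : IrrCharacter G) : IrrCharacter G := ⟨fun g => conj ((χ : G → ℂ) g), isIrr_conj χ.2⟩

theorem cj_apply (χ : IrrCharacter G) (g : G) : (cj χ : G → ℂ) g = conj ((χ : G → ℂ) g) := rfl

theorem cj_cj (χ : IrrCharacter G) : cj (cj χ) = χ := by
  apply Subtype.ext
  funext g
  rw [cj_apply, cj_apply, Complex.conj_conj]

/-- A function on the irreducible characters with odd sum, invariant under the complex conjugation, is odd at a real
valued character. -/
theorem exists_fixed_odd [Fintype (IrrCharacter G)] {f : IrrCharacter G → ℤ} (hf : ∀ χ, f (cj χ) = f χ)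
    (ho : Odd (∑ χ : IrrCharacter G, f χ)) :
    ∃ χ : IrrCharacter G, (∀ g, conj ((χ : G → ℂ) g) = (χ : G → ℂ) g) ∧ Odd (f χ) := by
  classical
  by_contra hcon
  push Not at hcon
  have h1 : ∀ χ : IrrCharacter G, cj χ = χ → ((f χ : ℤ) : ZMod 2) = 0 := by
    intro χ hχ
    have h2 := hcon χ fun g => congrFun (congrArg Subtype.val hχ) g
    rw [Int.not_odd_iff_even] at h2
    exact (ZMod.intCast_zmod_eq_zero_iff_dvd (f χ) 2).2 h2.two_dvd
  have h3 : ∑ χ : IrrCharacter G, ((f χ : ℤ) : ZMod 2) = 0 := by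
    refine Finset.sum_involution (fun χ _ => cj χ) ?_ ?_ ?_ ?_
    · intro χ _
      rw [hf]
      exact CharTwo.add_self_eq_zero _
    · intro χ _ hne h4
      exact hne (h1 χ h4)
    · intro χ _
      exact Finset.mem_univ _
    · intro χ _
      exact cj_cj χ
  rw [← Int.cast_sum] at h3
  have h4 := (ZMod.intCast_zmod_eq_zero_iff_dvd _ 2).1 h3
  exact (Int.not_even_iff_odd.2 ho) (even_iff_two_dvd.2 h4)

/-- **A real constituent with odd inner products.** -/
theorem exists_real_odd [Fintype G] {u : G} {T : Subgroup G} [Fintype T] {θ : T → ℂ} {a : IrrCharacter G → ℤ}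
    (ha : ∀ χ : IrrCharacter G, classInner (fun t : T => (χ : G → ℂ) (u * t)) θ = a χ)
    (hθ : ∀ t, conj (θ t) = θ t) {Φ : G → ℂ} (hΦ : IsCharacter G Φ) (hΦr : ∀ g, conj (Φ g) = Φ g)
    {m : ℤ} (hm : classInner (fun t : T => Φ (u * t)) θ = m) (hmo : Odd m) :
    ∃ χ : IrrCharacter G, (∀ g, conj ((χ : G → ℂ) g) = (χ : G → ℂ) g) ∧ Odd (a χ) ∧
      classInner Φ (χ : G → ℂ) ≠ 0 ∧ charDegree (χ : G → ℂ) ≤ charDegree Φ ∧
      ∃ k : ℕ, Odd k ∧ classInner Φ (χ : G → ℂ) = k := by
  classical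
  have hfin : Finite (IrrCharacter G) := finite_irr
  have hft := Fintype.ofFinite (IrrCharacter G)
  obtain ⟨c, hc⟩ := exists_nat_comb hΦ
  have hcc : ∀ χ : IrrCharacter G, classInner Φ (χ : G → ℂ) = c χ := fun χ => by
    conv_lhs => rw [hc]
    exact classInner_sum_nsmul_irr c χ
  have h1 : classInner (fun t : T => Φ (u * t)) θ = ∑ χ : IrrCharacter G, (c χ : ℂ) * a χ := by
    rw [hc, Characters.Core.classInner_def]
    simp only [Finset.sum_apply, nsmul_eq_mul, Finset.sum_mul]
    rw [Finset.sum_comm, Finset.mul_sum]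
    refine Finset.sum_congr rfl fun χ _ => ?_
    rw [← ha χ, Characters.Core.classInner_def, Finset.mul_sum, Finset.mul_sum, Finset.mul_sum]
    refine Finset.sum_congr rfl fun t _ => ?_
    have h3 : ((c χ : G → ℂ) * (χ : G → ℂ)) (u * (t : G)) = (c χ : ℂ) * (χ : G → ℂ) (u * t) := rfl
    rw [h3]
    ring
  rw [hm] at h1
  have h2 : m = ∑ χ : IrrCharacter G, (c χ : ℤ) * a χ := by exact_mod_cast h1
  -- invariance
  have hac : ∀ χ, a (cj χ) = a χ := by
    intro χ
    have h3 : (a (cj χ) : ℂ) = conj (a χ : ℂ) := by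
      rw [← ha, ← ha χ, Characters.Core.classInner_def, Characters.Core.classInner_def, map_mul, map_sum, map_inv₀,
        map_natCast]
      congr 1
      refine Finset.sum_congr rfl fun t _ => ?_
      rw [map_mul, cj_apply, hθ, hθ]
    rw [map_intCast] at h3
    exact_mod_cast h3
  have hcj : ∀ χ, c (cj χ) = c χ := by
    intro χ
    have h3 : (c (cj χ) : ℂ) = conj (c χ : ℂ) := by
      rw [← hcc, ← hcc χ, Characters.Core.classInner_def, Characters.Core.classInner_def, map_mul, map_sum, map_inv₀,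
        map_natCast]
      congr 1
      refine Finset.sum_congr rfl fun t _ => ?_
      rw [map_mul, cj_apply, hΦr]
    rw [map_natCast] at h3
    exact_mod_cast h3
  rw [h2] at hmo
  obtain ⟨χ, hχr, hχo⟩ := exists_fixed_odd (f := fun χ => (c χ : ℤ) * a χ) (fun χ => by rw [hac, hcj]) hmo
  rw [Int.odd_mul] at hχo
  have hck : Odd (c χ) := by exact_mod_cast hχo.1
  have hne : classInner Φ (χ : G → ℂ) ≠ 0 := by
    rw [hcc]
    exact_mod_cast hck.pos.ne'
  exact ⟨χ, hχr, hχo.2, hne, Cfsg.Agent.H101.Cod.charDegree_le_of_inner hΦ χ hne, c χ, hck, hcc χ⟩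

end Cfsg.Agent.H641.M23
end

-- part: H691/M23/Choice
section
/-!
# (M,23) of S4929: the choice of the real character `X` (helper691)

`Five u C T θ t y` : the data of the class `5A` of the Monster with the character `θ` of `HN`;
`exists_X` : a real irreducible character `X` in the block of `u`, `θ`, a constituent of `S_(2,2)(V)`, with the first
facts of `H924.M23.Facts`.
-/

set_option autoImplicit false

open Cfsg
open Cfsg.Agent.Blocks.Basic Cfsg.Agent.Blocks.Local
open Cfsg.Agent.Characters.Core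
open scoped ComplexConjugate

namespace Cfsg.Agent.H691.M23

universe v

/-- the data of the class `5A` -/
structure Five {G : Type v} [Group G] [Finite G] (u : G) (C T : Subgroup G) (θ : T → ℂ) (t y : T) : Prop where
  cardG : Nat.card G = 808017424794512875886459904961710757005754368000000000
  hyp : H591.M23.Blk.Hyp 5 u C T θ
  cardT : Nat.card T = 273030912000000
  one : θ 1 = 2375000
  real : ∀ s, conj (θ s) = θ s
  ot : orderOf t = 2
  ct : Nat.card (Subgroup.centralizer ({(t : G)} : Set G)) = 8309562962452852382355161088000000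
  num : Nat.card {s : T // IsConj (t : G) (s : G)} = 1539000
  val : ∀ s : T, IsConj (t : G) (s : G) → θ s = -1000
  oy : orderOf y = 11
  comm : Commute t y
  vy : θ y = 1
  vty : θ (t * y) = 1

variable {G : Type v} [Group G] [Finite G]

/-- a rational number which is an algebraic integer is an integer -/
theorem exists_int_of {z : ℂ} {a b : ℤ} (hb : b ≠ 0) (h : z * b = a) (hz : IsIntegral ℤ z) : ∃ n : ℤ, z = n := by
  have h1 : z = ((a / b : ℚ) : ℂ) := by
    push_cast
    rw [eq_div_iff (by exact_mod_cast hb)]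
    exact h
  rw [h1] at hz ⊢
  have h2 : IsIntegral ℤ (a / b : ℚ) := by
    have h3 := hz
    exact (isIntegral_algHom_iff (algebraMap ℚ ℂ).toIntAlgHom (algebraMap ℚ ℂ).injective).1 h3
  obtain ⟨n, hn⟩ := IsIntegrallyClosed.isIntegral_iff.1 h2
  refine ⟨n, ?_⟩
  rw [← hn]
  simp

omit [Finite G] in
theorem index_eq (g : G) {n : ℕ} (hn : Nat.card (Subgroup.centralizer ({g} : Set G)) = n) {m : ℕ}
    (hm : n * m = Nat.card G) (h0 : n ≠ 0) : (Subgroup.centralizer ({g} : Set G)).index = m := by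
  have h1 := Subgroup.card_mul_index (Subgroup.centralizer ({g} : Set G))
  rw [hn, ← hm] at h1
  exact Nat.eq_of_mul_eq_mul_left (Nat.pos_of_ne_zero h0) h1

section

variable {u : G} {C T : Subgroup G} {θ : T → ℂ} {t y : T} {X : IrrCharacter G} {d b c : ℤ}

/-- `om` -/
theorem exists_om (F : Five u C T θ t y) (hd : (X : G → ℂ) 1 = d) (hd0 : 0 < d) (hb : (X : G → ℂ) t = b) :
    ∃ w : ℤ, centralChar (X : G → ℂ) (t : G) = w ∧ w * d = H924.M23.cA * b := by
  have h1 : (Subgroup.centralizer ({(t : G)} : Set G)).index = 97239461142009186000 :=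
    index_eq _ F.ct (by rw [F.cardG]) (by norm_num)
  have h2 : centralChar (X : G → ℂ) (t : G) * d = ((H924.M23.cA * b : ℤ) : ℂ) := by
    unfold centralChar
    have h0 : (d : ℂ) ≠ 0 := by exact_mod_cast hd0.ne'
    rw [h1, hd, hb, div_mul_cancel₀ _ h0]
    unfold H924.M23.cA
    push_cast
    ring
  obtain ⟨w, hw⟩ := exists_int_of hd0.ne' h2 (Cfsg.Agent.S0902.isIntegral_centralChar X (t : G))
  refine ⟨w, hw, ?_⟩
  rw [hw] at h2
  exact_mod_cast h2

theorem five_index (F : Five u C T θ t y) :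
    (Subgroup.centralizer ({u} : Set G)).index = 591887137522737993774463094465809612800 := by
  have h0 : Nat.card (Subgroup.centralizer ({u} : Set G)) = 1365154560000000 := by
    rw [← F.hyp.cent, F.hyp.card, F.cardT]
  exact index_eq _ h0 (by rw [F.cardG]) (by norm_num)

/-- `five` -/
theorem exists_five (F : Five u C T θ t y) {M : Ideal AlgInt} (hM : IsPModular 5 M) (hd : (X : G → ℂ) 1 = d)
    (hd0 : 0 < d) (hc : c = 1 ∨ c = -1) (hu : (X : G → ℂ) u = c * 2375000)
    (h4 : MemLocalIdeal M (((5 : ℕ) : ℂ) - 1 - centralChar (X : G → ℂ) u)) :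
    ∃ v : ℤ, v * d = H924.M23.cN ∧ (5 : ℤ) ∣ v + c := by
  have hcc : c * c = 1 := by rcases hc with rfl | rfl <;> norm_num
  have h2 : centralChar (X : G → ℂ) u * d = ((c * H924.M23.cN : ℤ) : ℂ) := by
    unfold centralChar
    have h0 : (d : ℂ) ≠ 0 := by exact_mod_cast hd0.ne'
    rw [five_index F, hd, hu, div_mul_cancel₀ _ h0]
    have : H924.M23.cN = 591887137522737993774463094465809612800 * 2375000 := by decide +kernel
    rw [this]
    push_cast
    ring
  obtain ⟨k, hk⟩ := exists_int_of hd0.ne' h2 (Cfsg.Agent.S0902.isIntegral_centralChar X u)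
  rw [hk] at h2 h4
  have h5 : k * d = c * H924.M23.cN := by exact_mod_cast h2
  have h6 : (((5 : ℕ) : ℂ) - 1 - (k : ℂ)) = ((4 - k : ℤ) : ℂ) := by push_cast; ring
  rw [h6, memLocalIdeal_intCast_iff hM] at h4
  refine ⟨c * k, by rw [mul_assoc, h5, ← mul_assoc, hcc, one_mul], ?_⟩
  have h7 : c * k + c = -(c * (4 - k)) + 5 * c := by ring
  rw [h7]
  exact dvd_add (dvd_neg.2 (Dvd.dvd.mul_left h4 c)) (dvd_mul_right _ _)

/-- `om5` -/
theorem om_five (F : Five u C T θ t y) {M : Ideal AlgInt} (hM : IsPModular 5 M) {w : ℤ}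
    (hw : centralChar (X : G → ℂ) (t : G) = w)
    (h4 : MemLocalIdeal M (∑ᶠ s ∈ {s : T | IsConj (t : G) (s : G)}, θ s / θ 1 - centralChar (X : G → ℂ) (t : G))) :
    (5 : ℤ) ∣ w - 2 := by
  have h1 : ∑ᶠ s ∈ {s : T | IsConj (t : G) (s : G)}, θ s / θ 1 = ((-648 : ℤ) : ℂ) := by
    classical
    have h2 : ∑ᶠ s ∈ {s : T | IsConj (t : G) (s : G)}, θ s / θ 1 =
        ∑ᶠ s ∈ {s : T | IsConj (t : G) (s : G)}, ((-1000 : ℂ) / 2375000) := by
      refine finsum_mem_congr rfl fun s hs => ?_
      rw [F.val s hs, F.one]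
    rw [h2, finsum_mem_eq_finite_toFinset_sum _ (Set.toFinite _), Finset.sum_const, nsmul_eq_mul]
    have h3 : (Set.toFinite {s : T | IsConj (t : G) (s : G)}).toFinset.card = 1539000 := by
      rw [← F.num, ← Set.ncard_eq_toFinset_card, ← Nat.card_coe_set_eq]
      rfl
    rw [h3]
    norm_num
  rw [h1, hw] at h4
  have h6 : (((-648 : ℤ) : ℂ) - (w : ℂ)) = ((-648 - w : ℤ) : ℂ) := by push_cast; ring
  rw [h6, memLocalIdeal_intCast_iff hM] at h4
  omega

end

/-- **The choice of `X`.** -/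
theorem exists_X [Fintype G] {u : G} {C T : Subgroup G} [Fintype T] {θ : T → ℂ} {t y : T} (F : Five u C T θ t y)
    {M : Ideal AlgInt} (hM : IsPModular 5 M)
    {V : G → ℂ} (hV : IsCharacter G V) (hV1 : V 1 = 196883) (hVr : ∀ g, conj (V g) = V g) {m : ℤ}
    (hm : classInner (fun s : T => (V (u * s) ^ 4 + 3 * V ((u * s) ^ 2) ^ 2 - 4 * (V (u * s) * V ((u * s) ^ 3))) / 12)
      θ = m) (hodd : Odd m) :
    ∃ (X : IrrCharacter G) (d b w c : ℤ), (∀ g, conj ((X : G → ℂ) g) = (X : G → ℂ) g) ∧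
      (X : G → ℂ) 1 = d ∧ (X : G → ℂ) t = b ∧ (c = 1 ∨ c = -1) ∧ 0 < d ∧ d ≤ H924.M23.cD ∧
      (∃ v : ℤ, v * d = H924.M23.cN ∧ (5 : ℤ) ∣ v + c) ∧ centralChar (X : G → ℂ) (t : G) = w ∧
      w * d = H924.M23.cA * b ∧ (5 : ℤ) ∣ w - 2 ∧
      (∀ s : T, ¬ 5 ∣ orderOf s → (X : G → ℂ) (u * s) = c * θ s) := by
  have hp5 : Fact (Nat.Prime 5) := ⟨Nat.prime_five⟩
  obtain ⟨B, θ', a, -, -, -, -, -, ha1, ha0, ha, hval, -, hconj, h4, -⟩ := H591.M23.Blk.exists_blk hM F.hyp
  have hΦ := H641.M23.isCharacter_schur22 hV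
  obtain ⟨X, hXr, hXo, -, hXd, -⟩ := H641.M23.exists_real_odd ha F.real hΦ (fun g => by
    simp only [map_div₀, map_sub, map_add, map_mul, map_pow, hVr, map_ofNat]) hm hodd
  have hXB : X ∈ B := by
    by_contra h
    rw [ha0 X h] at hXo
    exact (by decide : ¬ Odd (0 : ℤ)) hXo
  obtain ⟨b, hb⟩ : ∃ b : ℤ, (X : G → ℂ) t = b := by
    obtain ⟨n, hn, -⟩ := Cfsg.Agent.S0944.result X (t : G) (by rw [Subgroup.orderOf_coe, F.ot])
    exact ⟨n, hn⟩
  have hd : (X : G → ℂ) 1 = ((charDegree (X : G → ℂ) : ℤ) : ℂ) := by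
    rw [irr_one_eq_charDegree X.2]
    push_cast
    rfl
  have hd0 : (0 : ℤ) < (charDegree (X : G → ℂ) : ℤ) := by exact_mod_cast charDegree_pos X.2
  obtain ⟨w, hw, hwd⟩ := exists_om F hd hd0 hb
  have h1reg : ¬ 5 ∣ orderOf (1 : T) := by rw [orderOf_one]; norm_num
  have hu : (X : G → ℂ) u = ((a X : ℤ) : ℂ) * 2375000 := by
    have h1 := hval X hXB 1 h1reg
    rw [F.one] at h1
    rw [← h1]
    simp
  refine ⟨X, charDegree (X : G → ℂ), b, w, a X, hXr, hd, hb, ha1 X hXB, hd0, ?_,
    exists_five F hM hd hd0 (ha1 X hXB) hu (h4 X hXB), hw, hwd,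
    om_five F hM hw (hconj X hXB t (by rw [Subgroup.orderOf_coe, F.ot]; norm_num)), hval X hXB⟩
  have h2 : charDegree (fun g => (V g ^ 4 + 3 * V (g ^ 2) ^ 2 - 4 * (V g * V (g ^ 3))) / 12) =
      125213636056146619086 := by
    apply charDegree_of_eq
    simp only [one_pow, hV1]
    norm_num
  rw [h2] at hXd
  unfold H924.M23.cD
  exact_mod_cast hXd

end Cfsg.Agent.H691.M23
end

private theorem dce_784dc5025a3d : _root_.True := by
  try have : _root_.True := by simp only [_root_.Cfsg.Agent.H641.M23.cj.congr_simp]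
  exact _root_.True.intro
end
end
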